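import Groth.Agent.Proj16.DVRFg
import Groth.Agent.FormCat.HenselDomain
import Groth.Agent.GeomField.Field
import Groth.Agent.GrpSchLib.TensorDomain
import Mathlib

/-! Algebraic Milnor fibres are Noetherian. -/

set_option autoImplicit false
universe u

namespace Groth.Agent.Milnor7

open IsLocalRing TensorProduct

/-- A finite extension of the fraction field of a henselian DVR with algebraically closed residue
field, embedded in a field with a dominating discrete valuation ring, has bounded degree. -/
theorem exists_finrank_le (V : Type u) [CommRing V] [IsDomain V] [IsDiscreteValuationRing V]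
    [HenselianLocalRing V] [IsAlgClosed (ResidueField V)]
    (K : Type u) [Field K] [CharZero K] [Algebra V K] [IsFractionRing V K]
    (F : Type u) [Field F] [Algebra V F] [Algebra K F] [IsScalarTower V K F]
    (O : ValuationSubring F) [IsDiscreteValuationRing O] (hO : ∀ v : V, algebraMap V F v ∈ O)
    (hloc : ∀ v : V, v ∈ maximalIdeal V → (⟨_, hO v⟩ : O) ∈ maximalIdeal O) :
    ∃ N : ℕ, ∀ E : IntermediateField K F, FiniteDimensional K E → Module.finrank K E ≤ N := by
  obtain ⟨π, hπ⟩ := IsDiscreteValuationRing.exists_irreducible V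
  have hπm : maximalIdeal V = Ideal.span {π} := hπ.maximalIdeal_eq
  have hπF : algebraMap V F π ≠ 0 := by
    rw [IsScalarTower.algebraMap_apply V K F]
    exact fun h => hπ.ne_zero ((IsFractionRing.injective V K) (by
      rw [map_zero]; exact (algebraMap K F).injective (h.trans (map_zero _).symm)))
  let πO : O := ⟨_, hO π⟩
  have hπO : πO ≠ 0 := fun h => hπF (congrArg Subtype.val h)
  obtain ⟨ϖO, hϖO⟩ := IsDiscreteValuationRing.exists_irreducible O
  obtain ⟨N, uO, hN⟩ := IsDiscreteValuationRing.eq_unit_mul_pow_irreducible hπO hϖO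
  refine ⟨N, fun E _ => ?_⟩
  let C := integralClosure V E
  haveI : Algebra.IsSeparable K E := inferInstance
  haveI : Module.Finite V C := IsIntegralClosure.finite V K E C
  haveI : IsFractionRing C E := IsIntegralClosure.isFractionRing_of_finite_extension V K E C
  haveI : IsDedekindDomain C := IsIntegralClosure.isDedekindDomain V K E C
  haveI : IsLocalRing C := FormCat.isLocalRing_of_finite_domain V C
  haveI : FaithfulSMul V E := (faithfulSMul_iff_algebraMap_injective V E).2 (by
    rw [IsScalarTower.algebraMap_eq V K E]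
    exact (algebraMap K E).injective.comp (IsFractionRing.injective V K))
  have hrank : Module.finrank V C = Module.finrank K E := IsIntegralClosure.rank V K E C
  have hinjC : Function.Injective (algebraMap V C) := fun x y h => by
    have h' : algebraMap V E x = algebraMap V E y := congrArg Subtype.val h
    rw [IsScalarTower.algebraMap_apply V K E, IsScalarTower.algebraMap_apply V K E] at h'
    exact IsFractionRing.injective V K ((algebraMap K E).injective h')
  -- elements of the integral closure lie in `O`
  have hCO : ∀ c : C, ((c : E) : F) ∈ O := by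
    intro c
    let ιO : V →+* O := (algebraMap V F).codRestrict O.toSubring hO
    letI : Algebra V O := ιO.toAlgebra
    haveI : IsScalarTower V O F := IsScalarTower.of_algebraMap_eq fun _ => rfl
    have h1 : IsIntegral O ((c : E) : F) := by
      refine IsIntegral.tower_top (R := V) ?_
      have h0 : IsIntegral V (c : E) := c.2
      exact h0.map (E.val.restrictScalars V)
    obtain ⟨y, hy⟩ := IsIntegrallyClosed.isIntegral_iff.1 h1
    exact hy ▸ y.2
  let j : C →+* O := ((E.val.toRingHom.comp C.val.toRingHom).codRestrict O.toSubring hCO)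
  have hjπ : j (algebraMap V C π) = πO := Subtype.ext ((E.val.restrictScalars V).commutes π)
  -- the maximal ideal
  have hπC : algebraMap V C π ∈ maximalIdeal C := fun h => by
    have := h.map j
    rw [hjπ] at this
    exact hloc π (hπm ▸ Ideal.mem_span_singleton_self π) this
  haveI : IsPrincipalIdealRing C := inferInstance
  obtain ⟨ϖ, hϖ⟩ := (IsPrincipalIdealRing.principal (maximalIdeal C)).principal
  have hϖ0 : ϖ ≠ 0 := fun h => hπ.ne_zero (hinjC (by
    rw [map_zero]
    have := hϖ ▸ hπC
    simpa [h] using this))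
  haveI : IsDiscreteValuationRing C :=
    { not_a_field' := fun h => hϖ0 (by simpa [h] using hϖ.symm) }
  have hirr : Irreducible ϖ := IsDiscreteValuationRing.irreducible_of_span_eq_maximalIdeal ϖ hϖ0 hϖ
  obtain ⟨e, uC, he⟩ := IsDiscreteValuationRing.eq_unit_mul_pow_irreducible
    (fun h => hπ.ne_zero (hinjC (h.trans (map_zero _).symm))) hirr
  -- `e ≤ N`
  have hjϖ : ϖO ∣ j ϖ := by
    rw [← Ideal.mem_span_singleton, ← hϖO.maximalIdeal_eq]
    intro hu
    have h1 : IsUnit (j (algebraMap V C π)) := by
      rw [he, map_mul, map_pow]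
      exact (uC.isUnit.map j).mul (hu.pow e)
    rw [hjπ] at h1
    exact hloc π (hπm ▸ Ideal.mem_span_singleton_self π) h1
  have heN : e ≤ N := by
    have h1 : ϖO ^ e ∣ ϖO ^ N := by
      have : ϖO ^ e ∣ πO := by
        rw [← hjπ, he, map_mul, map_pow]
        exact (pow_dvd_pow_of_dvd hjϖ e).mul_left _
      rw [hN] at this
      exact (Units.dvd_mul_left).1 this
    exact (pow_dvd_pow_iff hϖO.ne_zero hϖO.not_isUnit).1 h1
  -- residue field extension is trivial
  let mk : C →ₐ[V] C ⧸ maximalIdeal C := Ideal.Quotient.mkₐ V _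
  have hres : ∀ c : C, ∃ v : V, c - algebraMap V C v ∈ maximalIdeal C := by
    intro c
    let φ : ResidueField V →+* C ⧸ maximalIdeal C := Ideal.Quotient.lift _
      ((Ideal.Quotient.mk _).comp (algebraMap V C)) (fun v hv => by
        rw [hπm, Ideal.mem_span_singleton] at hv
        obtain ⟨w, rfl⟩ := hv
        show Ideal.Quotient.mk _ (algebraMap V C (π * w)) = 0
        rw [Ideal.Quotient.eq_zero_iff_mem, map_mul]
        exact Ideal.mul_mem_right _ _ hπC)
    letI : Algebra (ResidueField V) (C ⧸ maximalIdeal C) := φ.toAlgebra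
    haveI : IsScalarTower V (ResidueField V) (C ⧸ maximalIdeal C) :=
      IsScalarTower.of_algebraMap_eq fun _ => rfl
    haveI : Module.Finite (ResidueField V) (C ⧸ maximalIdeal C) :=
      Module.Finite.of_restrictScalars_finite V _ _
    haveI : IsDomain (C ⧸ maximalIdeal C) := Ideal.Quotient.isDomain _
    haveI : Algebra.IsIntegral (ResidueField V) (C ⧸ maximalIdeal C) := inferInstance
    obtain ⟨x, hx⟩ := (IsAlgClosed.algebraMap_bijective_of_isIntegral (k := ResidueField V)
      (K := C ⧸ maximalIdeal C)).2 (Ideal.Quotient.mk _ c)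
    obtain ⟨v, rfl⟩ := Ideal.Quotient.mk_surjective x
    exact ⟨v, Ideal.Quotient.eq.1 hx.symm⟩
  -- the powers of `ϖ` generate
  let M : Submodule V C := Submodule.span V (Set.range fun i : Fin e => ϖ ^ (i : ℕ))
  have hind : ∀ i ≤ e, ∀ c : C, ∃ m ∈ M, ∃ d : C, c - m = ϖ ^ i * d := by
    intro i
    induction i with
    | zero => exact fun _ c => ⟨0, M.zero_mem, c, by simp⟩
    | succ i ih =>
      intro hi c
      obtain ⟨m, hm, d, hd⟩ := ih (Nat.le_of_succ_le hi) c
      obtain ⟨v, hv⟩ := hres d
      rw [hϖ, Submodule.mem_span_singleton] at hv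
      obtain ⟨d', hd'⟩ := hv
      refine ⟨m + v • ϖ ^ i, M.add_mem hm (M.smul_mem v (Submodule.subset_span ⟨⟨i, hi⟩, rfl⟩)), d', ?_⟩
      rw [Algebra.smul_def]
      linear_combination hd + ϖ ^ i * hd'.symm
  have htop : ⊤ ≤ M := by
    refine Submodule.le_of_le_smul_of_le_jacobson_bot (I := maximalIdeal V) Module.Finite.fg_top
      (IsLocalRing.jacobson_eq_maximalIdeal (⊥ : Ideal V) bot_ne_top).ge ?_
    intro c _
    obtain ⟨m, hm, d, hd⟩ := hind e le_rfl c
    refine Submodule.mem_sup.2 ⟨m, hm, c - m, ?_, add_sub_cancel _ _⟩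
    rw [hd, show ϖ ^ e * d = π • ((↑uC⁻¹ : C) * d) by
      rw [Algebra.smul_def, he]; linear_combination (-(ϖ ^ e * d)) * uC.mul_inv]
    exact Submodule.smul_mem_smul (hπm ▸ Ideal.mem_span_singleton_self π) trivial
  calc Module.finrank K E = Module.finrank V C := hrank.symm
    _ = Module.finrank V M := by rw [top_le_iff.1 htop, finrank_top]
    _ ≤ Fintype.card (Fin e) := finrank_range_le_card _
    _ = e := Fintype.card_fin e
    _ ≤ N := heN

/-- A finite extension containing all algebraic elements. -/
theorem exists_relAlgClosure (V : Type u) [CommRing V] [IsDomain V] [IsDiscreteValuationRing V]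
    [HenselianLocalRing V] [IsAlgClosed (ResidueField V)]
    (K : Type u) [Field K] [CharZero K] [Algebra V K] [IsFractionRing V K]
    (B : Type u) [CommRing B] [IsDomain B] [IsLocalRing B] [IsNoetherianRing B] [Algebra V B]
    [IsLocalHom (algebraMap V B)]
    (F : Type u) [Field F] [Algebra B F] [IsFractionRing B F] [Algebra V F] [IsScalarTower V B F]
    [Algebra K F] [IsScalarTower V K F] :
    ∃ E : IntermediateField K F, FiniteDimensional K E ∧ ∀ a : F, IsAlgebraic K a → a ∈ E := by
  haveI : Algebra.EssFiniteType B F := Algebra.EssFiniteType.of_isLocalization F (nonZeroDivisors B)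
  obtain ⟨π, hπ⟩ := IsDiscreteValuationRing.exists_irreducible V
  obtain ⟨O, hO, hBO, hloc⟩ := Proj16.exists_dvr_dominating B F
    ⟨algebraMap V B π, fun h => hπ.not_isUnit (isUnit_of_map_unit (algebraMap V B) _ h), by
      rw [← IsScalarTower.algebraMap_apply, IsScalarTower.algebraMap_apply V K F]
      exact fun h => hπ.ne_zero (IsFractionRing.injective V K ((algebraMap K F).injective
        (h.trans (map_zero _).symm) |>.trans (map_zero _).symm))⟩
  have hVO : ∀ v : V, algebraMap V F v ∈ O := fun v =>
    (IsScalarTower.algebraMap_apply V B F v) ▸ hBO _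
  obtain ⟨N, hN⟩ := exists_finrank_le V K F O hVO (fun v hv hu => by
    have h1 : IsUnit ((algebraMap B F).codRestrict O.toSubring hBO (algebraMap V B v)) := by
      have e : (algebraMap B F).codRestrict O.toSubring hBO (algebraMap V B v) = (⟨_, hVO v⟩ : O) :=
        Subtype.ext (IsScalarTower.algebraMap_apply V B F v).symm
      rw [e]; exact hu
    exact hv (isUnit_of_map_unit (algebraMap V B) _ (hloc.map_nonunit _ h1)))
  classical
  let P : ℕ → Prop := fun n => ∃ E : IntermediateField K F, FiniteDimensional K E ∧ Module.finrank K E = n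
  have hP1 : P 1 := ⟨⊥, inferInstance, IntermediateField.finrank_bot⟩
  have h1N : 1 ≤ N := by simpa using hN ⊥ inferInstance
  obtain ⟨E, hE, hEn⟩ := Nat.findGreatest_spec h1N hP1
  refine ⟨E, hE, fun a ha => ?_⟩
  haveI := hE
  haveI : FiniteDimensional K (IntermediateField.adjoin K {a}) :=
    IntermediateField.adjoin.finiteDimensional ha.isIntegral
  let E' := E ⊔ IntermediateField.adjoin K {a}
  haveI : FiniteDimensional K E' := IntermediateField.finiteDimensional_sup _ _
  have hle : Module.finrank K E' ≤ Module.finrank K E := by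
    rw [hEn]; exact Nat.le_findGreatest (hN E' inferInstance) ⟨E', inferInstance, rfl⟩
  have := IntermediateField.eq_of_le_of_finrank_le (le_sup_left : E ≤ E') hle
  rw [this]
  exact le_sup_right (a := E) (IntermediateField.mem_adjoin_simple_self K a)

/-- If `k` is separably closed in `F`, then `L ⊗ F` is a domain for every separable algebraic `L/k`. -/
theorem isDomain_tensor (k : Type u) [Field k] (L F : Type u) [Field L] [Algebra k L]
    [Algebra.IsSeparable k L] [Field F] [Algebra k F]
    (h : ∀ a : F, IsSeparable k a → a ∈ Set.range (algebraMap k F)) : IsDomain (L ⊗[k] F) := by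
  haveI : Nontrivial (L ⊗[k] F) :=
    (Algebra.TensorProduct.includeLeft_injective (S := k) (A := L) (algebraMap k F).injective).nontrivial
  haveI : NoZeroDivisors (L ⊗[k] F) := by
    refine ⟨fun {x y} hxy => ?_⟩
    obtain ⟨S, hS, hx⟩ := GrpSchLib.exists_fg_mem_range_rTensor x
    obtain ⟨T, hT, hy⟩ := GrpSchLib.exists_fg_mem_range_rTensor y
    have hST : (S ⊔ T).FG := hS.sup hT
    let U := S ⊔ T
    haveI : Algebra.IsAlgebraic k L := inferInstance
    haveI : Module.Finite k U := by
      haveI := (Subalgebra.fg_iff_finiteType U).1 hST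
      haveI : Algebra.IsIntegral k U := Algebra.IsIntegral.of_injective U.val Subtype.val_injective
      exact Algebra.IsIntegral.finite
    let E : IntermediateField k L :=
      U.toIntermediateField fun z hz => Subalgebra.inv_mem_of_algebraic U (x := ⟨z, hz⟩) (Algebra.IsAlgebraic.isAlgebraic _)
    haveI : FiniteDimensional k E := ‹Module.Finite k U›
    haveI : Algebra.IsSeparable k E := inferInstance
    haveI : IsDomain (F ⊗[k] E) := GeomField.isDomain_tensor_of_separable E F h
    haveI : IsDomain (E ⊗[k] F) := (Algebra.TensorProduct.comm k E F).toRingEquiv.toMulEquiv.isDomain (F ⊗[k] E)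
    let f := Algebra.TensorProduct.map E.val (AlgHom.id k F)
    have hf : Function.Injective f :=
      Module.Flat.rTensor_preserves_injective_linearMap (M := F) E.val.toLinearMap E.val.injective
    have key : ∀ (S' : Subalgebra k L) (hle : S' ≤ U), ∀ z ∈ Set.range (Algebra.TensorProduct.map S'.val (AlgHom.id k F)),
        z ∈ Set.range f := by
      rintro S' hle _ ⟨z, rfl⟩
      let i : S' →ₐ[k] E := Subalgebra.inclusion hle
      refine ⟨Algebra.TensorProduct.map i (AlgHom.id k F) z, ?_⟩
      rw [← AlgHom.comp_apply, ← Algebra.TensorProduct.map_comp]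
      rfl
    obtain ⟨x', rfl⟩ := key S le_sup_left x hx
    obtain ⟨y', rfl⟩ := key T le_sup_right y hy
    rcases mul_eq_zero.1 (hf (by rw [map_mul, map_zero, hxy]) : x' * y' = 0) with h0 | h0
    · exact Or.inl (by rw [h0, map_zero])
    · exact Or.inr (by rw [h0, map_zero])
  exact NoZeroDivisors.to_isDomain _

/-- Main theorem: the tensor product with an algebraic closure is Noetherian. -/
theorem isNoetherianRing_tensor (V : Type u) [CommRing V] [IsDomain V] [IsDiscreteValuationRing V]
    [HenselianLocalRing V] [IsAlgClosed (ResidueField V)] [CharZero V]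
    (L : Type u) [Field L] [IsAlgClosed L] [Algebra V L] [FaithfulSMul V L] [Algebra.IsAlgebraic V L]
    (B : Type u) [CommRing B] [IsLocalRing B] [IsNoetherianRing B] [Algebra V B]
    [IsLocalHom (algebraMap V B)] :
    IsNoetherianRing (L ⊗[V] B) := by
  refine IsNoetherianRing.of_prime fun P hP => ?_
  let K := FractionRing V
  haveI : CharZero K := charZero_of_injective_algebraMap (IsFractionRing.injective V K)
  letI : Algebra K L := FractionRing.liftAlgebra V L
  let ι : B →ₐ[V] L ⊗[V] B := Algebra.TensorProduct.includeRight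
  let p : Ideal B := P.comap ι.toRingHom
  haveI : p.IsPrime := hP.comap _
  let Q := FractionRing ((L ⊗[V] B) ⧸ P)
  let F := FractionRing (B ⧸ p)
  let ρ : L ⊗[V] B →ₐ[V] Q := (IsScalarTower.toAlgHom V _ Q).comp (Ideal.Quotient.mkₐ V P)
  have hρ : ∀ z, ρ z = 0 ↔ z ∈ P := fun z => by
    refine ⟨fun h => Ideal.Quotient.eq_zero_iff_mem.1 (IsFractionRing.injective _ Q (h.trans (map_zero _).symm)), fun h => ?_⟩
    show algebraMap _ Q (Ideal.Quotient.mk P z) = 0
    rw [Ideal.Quotient.eq_zero_iff_mem.2 h, map_zero]
  haveI : IsScalarTower V L Q := inferInstance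
  have hLQ : ∀ l : L, algebraMap L Q l = ρ (algebraMap L (L ⊗[V] B) l) := fun l => rfl
  have hVQ : Function.Injective (algebraMap V Q) := by
    rw [IsScalarTower.algebraMap_eq V L Q]
    exact (algebraMap L Q).injective.comp (FaithfulSMul.algebraMap_injective V L)
  haveI : FaithfulSMul V Q := (faithfulSMul_iff_algebraMap_injective V Q).2 hVQ
  let β : (B ⧸ p) →ₐ[V] Q := Ideal.Quotient.liftₐ p (ρ.comp ι) fun b hb => (hρ _).2 hb
  have hβ : Function.Injective β := (injective_iff_map_eq_zero β).2 fun x hx => by
    obtain ⟨b, rfl⟩ := Ideal.Quotient.mk_surjective x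
    exact Ideal.Quotient.eq_zero_iff_mem.2 ((hρ (ι b)).1 hx)
  let j₀ : F →ₐ[V] Q := IsFractionRing.liftAlgHom (R := V) (A := B ⧸ p) (K := F) (L := Q) (g := β) hβ
  have hVF : Function.Injective (algebraMap V F) := fun a b h =>
    hVQ (by rw [← j₀.commutes, ← j₀.commutes, h])
  haveI : FaithfulSMul V F := (faithfulSMul_iff_algebraMap_injective V F).2 hVF
  letI : Algebra K F := FractionRing.liftAlgebra V F
  haveI : IsScalarTower V K Q := IsScalarTower.to₁₂₄ V K L Q
  have hjK : j₀.toRingHom.comp (algebraMap K F) = algebraMap K Q := IsLocalization.ringHom_ext (nonZeroDivisors V) (by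
    rw [RingHom.comp_assoc, ← IsScalarTower.algebraMap_eq V K F, ← IsScalarTower.algebraMap_eq V K Q]
    exact j₀.comp_algebraMap)
  let j : F →ₐ[K] Q := { j₀.toRingHom with commutes' := fun x => DFunLike.congr_fun hjK x }
  haveI : IsLocalRing (B ⧸ p) := IsLocalRing.of_surjective' (Ideal.Quotient.mk p) Ideal.Quotient.mk_surjective
  haveI : IsLocalHom (algebraMap V (B ⧸ p)) := by
    haveI := Ideal.Quotient.mk_surjective.isLocalHom (f := Ideal.Quotient.mk p)
    exact RingHom.isLocalHom_comp (Ideal.Quotient.mk p) (algebraMap V B)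
  obtain ⟨E, hE, hEa⟩ := exists_relAlgClosure V K (B ⧸ p) F
  haveI := hE
  -- the embedding of `E` into `L`
  haveI : Algebra.IsAlgebraic K L := (IsFractionRing.comap_isAlgebraic_iff (A := V) (K := K) (C := L)).1 ‹_›
  have hmem : ∀ a : E, j a ∈ (IsScalarTower.toAlgHom K L Q).range := by
    intro a
    have h1 : IsIntegral L (j a) :=
      ((Algebra.IsIntegral.isIntegral (R := K) a).map (j.comp E.val)).tower_top
    exact minpoly.mem_range_of_degree_eq_one L (j a)
      (IsAlgClosed.degree_eq_one_of_irreducible L (minpoly.irreducible h1))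
  let e := AlgEquiv.ofInjectiveField (IsScalarTower.toAlgHom K L Q)
  let σ : E →ₐ[K] L := e.symm.toAlgHom.comp ((j.comp E.val).codRestrict _ hmem)
  have hσ : ∀ a : E, algebraMap L Q (σ a) = j a := fun a =>
    congrArg Subtype.val (e.apply_symm_apply ⟨_, hmem a⟩)
  letI : Algebra E L := σ.toRingHom.toAlgebra
  haveI : IsScalarTower K E L := IsScalarTower.of_algebraMap_eq fun x => (σ.commutes x).symm
  haveI : IsScalarTower V E L := IsScalarTower.of_algebraMap_eq fun v => by
    rw [IsScalarTower.algebraMap_apply V K E, IsScalarTower.algebraMap_apply V K L,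
      IsScalarTower.algebraMap_apply K E L]
  haveI : Algebra.IsAlgebraic E L := Algebra.IsAlgebraic.tower_top (K := K) (L := E) (A := L)
  haveI : CharZero E := charZero_of_injective_algebraMap (algebraMap K E).injective
  haveI : Algebra.IsSeparable E L := inferInstance
  haveI : IsDomain (L ⊗[E] F) := isDomain_tensor E L F fun a ha => by
    have h2 : IsIntegral K a := isIntegral_trans a ha.isIntegral
    exact ⟨⟨a, hEa a h2.isAlgebraic⟩, rfl⟩
  -- `L ⊗ F → Q` is injective
  letI : Algebra E Q := ((algebraMap L Q).comp σ.toRingHom).toAlgebra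
  haveI : IsScalarTower E L Q := IsScalarTower.of_algebraMap_eq fun _ => rfl
  let jE : F →ₐ[E] Q := { j.toRingHom with commutes' := fun a => (hσ a).symm }
  let η : L ⊗[E] F →ₐ[E] Q :=
    Algebra.TensorProduct.lift (IsScalarTower.toAlgHom E L Q) jE fun _ _ => Commute.all _ _
  have hη : Function.Injective η := by
    haveI : IsDomain (F ⊗[E] L) :=
      (Algebra.TensorProduct.comm E F L).toRingEquiv.toMulEquiv.isDomain (L ⊗[E] F)
    haveI : Algebra.IsIntegral F (F ⊗[E] L) := Algebra.IsIntegral.tensorProduct E F L
    have hfield : IsField (L ⊗[E] F) := (Algebra.TensorProduct.comm E L F).toRingEquiv.toMulEquiv.isField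
      (isField_of_isIntegral_of_isField' (R := F) (Field.toIsField F))
    refine (injective_iff_map_eq_zero η).2 fun x hx => by_contra fun hne => ?_
    obtain ⟨y, hy⟩ := hfield.mul_inv_cancel hne
    have h1 := congrArg η hy
    rw [map_mul, hx, zero_mul, map_one] at h1
    exact zero_ne_one h1
  -- the kernel at finite level
  haveI : Algebra.EssFiniteType V E := by
    haveI : Algebra.EssFiniteType V K := Algebra.EssFiniteType.of_isLocalization K (nonZeroDivisors V)
    exact Algebra.EssFiniteType.comp V K E
  haveI : IsNoetherianRing (E ⊗[V] B) := by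
    haveI : IsNoetherianRing (B ⊗[V] E) := Algebra.EssFiniteType.isNoetherianRing B (B ⊗[V] E)
    exact isNoetherianRing_of_ringEquiv _ (Algebra.TensorProduct.comm V B E).toRingEquiv
  haveI : IsScalarTower V E F := IsScalarTower.of_algebraMap_eq fun v => by
    rw [IsScalarTower.algebraMap_apply V K F v, IsScalarTower.algebraMap_apply V K E v]
    rfl
  let bF : B →ₐ[V] F := (IsScalarTower.toAlgHom V (B ⧸ p) F).comp (Ideal.Quotient.mkₐ V p)
  let ψ : E ⊗[V] B →ₐ[E] F :=
    Algebra.TensorProduct.lift (Algebra.ofId E F) bF fun _ _ => Commute.all _ _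
  let P' := RingHom.ker ψ.toRingHom
  let π' : E ⊗[V] B →ₐ[E] (E ⊗[V] B) ⧸ P' := Ideal.Quotient.mkₐ E P'
  let ψ' : (E ⊗[V] B) ⧸ P' →ₐ[E] F := Ideal.Quotient.liftₐ P' ψ fun _ h => h
  have hψ' : Function.Injective ψ' := (injective_iff_map_eq_zero ψ').2 fun x hx => by
    obtain ⟨y, rfl⟩ := Ideal.Quotient.mk_surjective x
    exact Ideal.Quotient.eq_zero_iff_mem.2 hx
  let c := Algebra.TensorProduct.cancelBaseChange V E E L B
  have hcomm : ∀ z : L ⊗[E] (E ⊗[V] B), ρ (c z) =
      η (Algebra.TensorProduct.map (AlgHom.id E L) ψ' (Algebra.TensorProduct.map (AlgHom.id E L) π' z)) := by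
    intro z
    induction z with
    | zero => simp
    | add a b ha hb => simp only [map_add, ha, hb]
    | tmul l w =>
      induction w with
      | zero => simp
      | add a b ha hb => simp only [tmul_add, map_add, ha, hb]
      | tmul a b =>
        have h1 : c (l ⊗ₜ[E] (a ⊗ₜ[V] b)) = (a • l) ⊗ₜ[V] b :=
          Algebra.TensorProduct.cancelBaseChange_tmul ..
        rw [h1, Algebra.TensorProduct.map_tmul, Algebra.TensorProduct.map_tmul, Algebra.TensorProduct.lift_tmul]
        show ρ ((a • l) ⊗ₜ[V] b) = algebraMap L Q l * jE (Algebra.ofId E F a * bF b)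
        rw [ map_mul, show jE (bF b) = ρ (ι b) from IsFractionRing.lift_algebraMap hβ _,
          show jE (Algebra.ofId E F a) = algebraMap L Q (σ a) from (hσ a).symm, ← mul_assoc, ← map_mul,
          show (a • l) ⊗ₜ[V] b = algebraMap L (L ⊗[V] B) (a • l) * ι b by simp [ι], map_mul,
          show a • l = σ a * l from rfl, mul_comm (σ a) l]
        rfl
  have hker : P.comap c.toAlgHom.toRingHom =
      P'.map (Algebra.TensorProduct.includeRight (R := E) (A := L)).toRingHom := by
    have h2 : P.comap c.toAlgHom.toRingHom =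
        RingHom.ker (Algebra.TensorProduct.map (AlgHom.id E L) π').toRingHom := by
      ext z
      rw [Ideal.mem_comap, RingHom.mem_ker]
      refine (hρ (c z)).symm.trans ?_
      rw [hcomm]
      have hinj : Function.Injective (Algebra.TensorProduct.map (AlgHom.id E L) ψ') :=
        Module.Flat.lTensor_preserves_injective_linearMap (M := L) ψ'.toLinearMap hψ'
      exact (map_eq_zero_iff η hη).trans (map_eq_zero_iff _ hinj)
    rw [h2]
    refine (Algebra.TensorProduct.lTensor_ker π' Ideal.Quotient.mk_surjective).trans ?_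
    show Ideal.map _ (RingHom.ker (Ideal.Quotient.mk P')) = _
    rw [Ideal.mk_ker]
    rfl
  rw [← Ideal.map_comap_of_surjective c.toAlgHom.toRingHom c.surjective P, hker]
  exact Ideal.FG.map (Ideal.FG.map (IsNoetherian.noetherian P') _) _

end Groth.Agent.Milnor7
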